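/-! Generated data: words in the J4 letters for three generators of PGL2(23). -/

set_option autoImplicit false
set_option maxRecDepth 20000

namespace Cfsg.Lib.J4PGL

/-- The translation, of order 23. -/
def aWord : List Nat := [
    0, 1, 0, 1, 0, 4, 0, 1, 0, 4, 0, 1, 0, 4, 0, 4, 0, 1, 0, 1, 0, 4, 0, 4,
    0, 4, 0, 4, 0, 4, 0, 1, 0, 1]

/-- The torus generator, of order 22. -/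
def eWord : List Nat := [
    5, 3, 15, 4, 5, 4, 16, 13, 6, 4, 2, 0, 1, 0, 1, 2, 10, 11, 12, 13, 14, 15, 16, 3,
    1, 3, 1, 3, 1, 3, 4, 3, 4, 3, 4, 3, 1, 3, 1, 3, 4, 3, 1, 3, 1, 0, 1, 0,
    1, 0, 4, 0, 4, 0, 4, 0, 1, 0, 1, 0, 4, 0, 4, 0, 4, 0, 4, 0, 1, 0, 4, 0,
    1, 0, 4, 0, 4, 0, 1, 0, 1, 0, 1, 0, 4, 0, 4, 0, 4, 0, 1, 0, 1, 0, 1, 0,
    1, 0, 4, 0, 4, 0, 4, 0, 1, 0, 1, 0, 1, 0, 1, 0, 1, 0, 1, 0, 1, 0, 4, 0,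
    1, 0, 1, 0, 1, 0, 4, 0, 1, 0, 1, 0, 1]

/-- The eleventh power of the torus generator. -/
def sWord : List Nat := [
    5, 3, 15, 4, 5, 4, 16, 13, 6, 4, 2, 0, 1, 0, 1, 2, 10, 11, 12, 13, 14, 15, 16, 3,
    1, 3, 1, 3, 1, 3, 4, 3, 4, 3, 4, 3, 1, 3, 1, 3, 4, 3, 1, 3, 1, 0, 1, 0,
    1, 0, 4, 0, 4, 0, 4, 0, 1, 0, 1, 0, 4, 0, 4, 0, 4, 0, 4, 0, 1, 0, 4, 0,
    1, 0, 4, 0, 4, 0]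

/-- The inversion. -/
def wWord : List Nat := [
    1, 0, 4, 0, 4, 0, 4, 0, 1, 0, 4, 0, 4, 0, 1, 0, 1, 0, 1, 0, 1, 0, 1, 0,
    1, 0, 4, 0, 1, 0, 4, 0, 1, 0, 4, 0, 4, 0, 4, 0, 4, 0, 4, 0, 4, 0, 1, 0,
    1, 0, 4, 0, 1, 0, 1, 0, 1, 0, 4, 6, 7, 8, 12, 13, 14, 16, 5, 3, 15, 4, 5, 4,
    16, 13, 6, 4, 2, 0, 1, 0, 1, 2, 10, 11, 12, 13, 14, 15, 16, 3, 1, 3, 1, 3, 1, 3,
    4, 3, 4, 3, 4, 3, 1, 3, 1, 3, 4, 3, 1, 3, 1, 0, 1, 0, 1, 0, 4, 0, 4, 0,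
    4, 0, 1, 0, 1, 0, 4, 0, 4, 0, 4, 0, 4, 0, 1, 0, 4, 0, 1, 0, 4, 0, 4, 0]

end Cfsg.Lib.J4PGL
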