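import Cfsg.Agent.Lib.J4PGL.Normal
import Cfsg.Agent.Lib.J4PGL.Data
import Cfsg.Agent.Lib.J4Real.Order

/-!
# PGL2(23) inside the 112-dimensional model of the fourth Janko group
-/

set_option autoImplicit false
set_option maxRecDepth 20000

namespace Cfsg.Lib.J4PGL

open Cfsg.Lib.J4Real Cfsg.Lib.CosetEnum

/-- A repeated word. -/
def rep (n : ℕ) (w : List ℕ) : List ℕ := (List.replicate n w).flatten

theorem words_low : (low aWord && low eWord && low wWord) = true := by decide +kernel

theorem a_pow_ok : sameW (rep 23 aWord) [] = true := by decide +kernel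

theorem a_moves_ok : moves aWord = true := by decide +kernel

theorem e_pow_ok : sameW (rep 11 eWord) sWord = true := by decide +kernel

theorem s_sq_ok : sameW (rep 2 sWord) [] = true := by decide +kernel

theorem ea_ok : sameW (eWord ++ aWord) (rep 5 aWord ++ eWord) = true := by decide +kernel

theorem w_sq_ok : sameW (rep 2 wWord) [] = true := by decide +kernel

theorem we_ok : sameW (wWord ++ eWord ++ wWord ++ eWord) [] = true := by decide +kernel

theorem braid_ok :
    sameW (wWord ++ aWord ++ wWord) (aWord ++ sWord ++ wWord ++ aWord) = true := by decide +kernel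

theorem low_mem {w : List ℕ} (h : low w = true) : wp w ∈ Gsub :=
  wp_mem_G fun g hg => by
    have := List.all_eq_true.1 h g hg
    exact (Nat.blt_eq.mp this).trans (by norm_num)

theorem wp_rep (n : ℕ) (w : List ℕ) : wp (rep n w) = wp w ^ n := wp_replicate n w

/-- The relations inside the model. -/
noncomputable def modelRels : Rels Gsub where
  A := ⟨wp aWord, low_mem (by have := words_low; simp only [Bool.and_eq_true] at this; exact this.1.1)⟩
  E := ⟨wp eWord, low_mem (by have := words_low; simp only [Bool.and_eq_true] at this; exact this.1.2)⟩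
  W := ⟨wp wWord, low_mem (by have := words_low; simp only [Bool.and_eq_true] at this; exact this.2)⟩
  hA := Subtype.ext (by
    simpa only [SubmonoidClass.coe_pow, OneMemClass.coe_one, wp_rep, wp_nil] using sameW_wp a_pow_ok)
  hA1 := fun h => moves_ne a_moves_ok (congrArg Subtype.val h)
  hE := Subtype.ext (by
    have h1 := sameW_wp e_pow_ok
    have h2 := sameW_wp s_sq_ok
    rw [wp_rep] at h1
    rw [wp_rep, wp_nil, ← h1, ← pow_mul] at h2
    simpa using h2)
  hEA := Subtype.ext (by
    simpa only [MulMemClass.coe_mul, SubmonoidClass.coe_pow, wp_append, wp_rep] using sameW_wp ea_ok)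
  hW := Subtype.ext (by
    simpa only [MulMemClass.coe_mul, OneMemClass.coe_one, wp_rep, wp_nil, pow_two] using
      sameW_wp w_sq_ok)
  hWE := eq_inv_of_mul_eq_one_left (Subtype.ext (by
    simpa only [MulMemClass.coe_mul, OneMemClass.coe_one, wp_append, wp_nil, mul_assoc] using
      sameW_wp we_ok))
  hbr := Subtype.ext (by
    have h1 := sameW_wp e_pow_ok
    have h2 := sameW_wp braid_ok
    rw [wp_rep] at h1
    simpa only [MulMemClass.coe_mul, SubmonoidClass.coe_pow, wp_append, ← h1] using h2)

/-- The model contains PGL2(23). -/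
theorem exists_pgl : ∃ L : Subgroup Gsub,
    Nonempty (↥L ≃* GL (Fin 2) (ZMod 23) ⧸ Subgroup.center (GL (Fin 2) (ZMod 23))) :=
  exists_subgroup modelRels

/-- The statement transported along an isomorphism with the model. -/
theorem exists_pgl_of_iso {G : Type*} [Group G] (φ : G ≃* Gsub) : ∃ K : Subgroup G,
    Nonempty (↥K ≃* GL (Fin 2) (ZMod 23) ⧸ Subgroup.center (GL (Fin 2) (ZMod 23))) := by
  obtain ⟨L, ⟨e⟩⟩ := exists_pgl
  exact ⟨L.map φ.symm.toMonoidHom, ⟨(φ.symm.subgroupMap L).symm.trans e⟩⟩

end Cfsg.Lib.J4PGL
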