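import Mathlib

/-!
# PGL2(23) from a translation, a torus generator and an inversion

If `A` has order 23, `E ^ 22 = 1`, `E A = A ^ 5 E`, `W` is an involution inverting `E` and
`W A W = A E ^ 11 W A`, then the group contains a copy of GL2(23) modulo its centre: the
normal form `A ^ p * D δ * W * A ^ q` is multiplicative.
-/

set_option autoImplicit false

namespace Cfsg.Lib.J4PGL

/-- The field with 23 elements. -/
abbrev F23 : Type := ZMod 23

instance fact_prime_23 : Fact (Nat.Prime 23) := ⟨by norm_num⟩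

/-- The discrete logarithm to the base 5. -/
def dlog (x : F23) : ℕ :=
  [0, 0, 2, 16, 4, 1, 18, 19, 6, 10, 3, 9, 20, 14, 21, 17, 8, 7, 12, 15, 5, 13, 11].getD x.val 0

theorem dlog_spec : ∀ x : F23, x ≠ 0 → (5 : F23) ^ dlog x = x := by decide +kernel

theorem dlog_mul : ∀ x y : F23, x ≠ 0 → y ≠ 0 →
    dlog (x * y) % 22 = (dlog x + dlog y) % 22 := by decide +kernel

theorem dlog_five : dlog 5 = 1 ∧ dlog (-1) = 11 ∧ dlog 1 = 0 := by decide +kernel

/-- The relations. -/
structure Rels (K : Type*) [Group K] where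
  A : K
  E : K
  W : K
  hA : A ^ 23 = 1
  hA1 : A ≠ 1
  hE : E ^ 22 = 1
  hEA : E * A = A ^ 5 * E
  hW : W * W = 1
  hWE : W * E * W = E⁻¹
  hbr : W * A * W = A * E ^ 11 * W * A

namespace Rels

variable {K : Type*} [Group K] (R : Rels K)

/-- A translation. -/
def T (b : F23) : K := R.A ^ b.val

/-- A torus element. -/
def D (x : F23) : K := R.E ^ dlog x

theorem T_nat (n : ℕ) : R.T (n : F23) = R.A ^ n := by
  rw [T, ZMod.val_natCast, ← pow_eq_pow_mod n R.hA]

theorem T_zero : R.T 0 = 1 := by rw [T, ZMod.val_zero, pow_zero]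

theorem T_one : R.T 1 = R.A := by rw [← Nat.cast_one, R.T_nat, pow_one]

theorem T_add (a b : F23) : R.T (a + b) = R.T a * R.T b := by
  rw [T, T, T, ← pow_add, ZMod.val_add, ← pow_eq_pow_mod _ R.hA]

theorem T_assoc (a b : F23) (y : K) : R.T a * (R.T b * y) = R.T (a + b) * y := by
  rw [R.T_add, mul_assoc]

theorem T_eq_one {b : F23} (h : R.T b = 1) : b = 0 := by
  have ho : orderOf R.A = 23 := orderOf_eq_prime R.hA R.hA1
  have h' := orderOf_dvd_of_pow_eq_one (show R.A ^ b.val = 1 from h)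
  rw [ho] at h'
  have := Nat.eq_zero_of_dvd_of_lt h' b.val_lt
  rw [← ZMod.natCast_zmod_val b, this, Nat.cast_zero]

theorem T_inj {a b : F23} (h : R.T a = R.T b) : a = b := by
  have : R.T (a - b) * R.T b = R.T b := by rw [← R.T_add, sub_add_cancel, h]
  exact sub_eq_zero.1 (R.T_eq_one (mul_eq_right.1 this))

theorem D_one : R.D 1 = 1 := by rw [D, dlog_five.2.2, pow_zero]

theorem D_five : R.D 5 = R.E := by rw [D, dlog_five.1, pow_one]

theorem D_neg_one : R.D (-1) = R.E ^ 11 := by rw [D, dlog_five.2.1]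

theorem D_mul {x y : F23} (hx : x ≠ 0) (hy : y ≠ 0) : R.D (x * y) = R.D x * R.D y := by
  rw [D, D, D, ← pow_add, pow_eq_pow_mod (dlog (x * y)) R.hE, dlog_mul x y hx hy,
    ← pow_eq_pow_mod _ R.hE]

theorem D_assoc {x y : F23} (hx : x ≠ 0) (hy : y ≠ 0) (z : K) :
    R.D x * (R.D y * z) = R.D (x * y) * z := by
  rw [R.D_mul hx hy, mul_assoc]

theorem D_inv {x : F23} (hx : x ≠ 0) : R.D x⁻¹ = (R.D x)⁻¹ := by
  refine eq_inv_of_mul_eq_one_left ?_
  rw [← R.D_mul (inv_ne_zero hx) hx, inv_mul_cancel₀ hx, R.D_one]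

theorem E_T (b : F23) : R.E * R.T b = R.T (5 * b) * R.E := by
  have h : ∀ n : ℕ, R.E * R.A ^ n = R.A ^ (5 * n) * R.E := by
    intro n
    induction n with
    | zero => simp
    | succ n ih =>
      rw [pow_succ, ← mul_assoc, ih, mul_assoc, R.hEA, ← mul_assoc, ← pow_add]
      ring_nf
  rw [show (5 : F23) * b = ((5 * b.val : ℕ) : F23) by
    rw [Nat.cast_mul, ZMod.natCast_zmod_val]; norm_num, R.T_nat]
  exact h _

theorem D_T {x : F23} (hx : x ≠ 0) (b : F23) : R.D x * R.T b = R.T (x * b) * R.D x := by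
  have h : ∀ (n : ℕ) (c : F23), R.E ^ n * R.T c = R.T (5 ^ n * c) * R.E ^ n := by
    intro n
    induction n with
    | zero => intro c; simp
    | succ n ih =>
      intro c
      rw [pow_succ, mul_assoc, R.E_T, ← mul_assoc, ih, mul_assoc, ← pow_succ,
        pow_succ (5 : F23), mul_assoc]
  have h' := h (dlog x) b
  rwa [dlog_spec x hx] at h'

theorem T_D {x : F23} (hx : x ≠ 0) (b : F23) : R.T b * R.D x = R.D x * R.T (b / x) := by
  rw [R.D_T hx, mul_div_cancel₀ b hx]

theorem W_D {x : F23} (hx : x ≠ 0) : R.W * R.D x = R.D x⁻¹ * R.W := by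
  have hWi : R.W⁻¹ = R.W := inv_eq_of_mul_eq_one_right R.hW
  have h : R.W * R.D x * R.W = (R.D x)⁻¹ := by
    have := conj_pow (a := R.W) (b := R.E) (i := dlog x)
    rw [hWi, R.hWE, inv_pow] at this
    exact this.symm
  rw [R.D_inv hx, ← h, mul_assoc, R.hW, mul_one]

/-- The general braid relation. -/
theorem W_T_W {k : F23} (hk : k ≠ 0) :
    R.W * R.T k * R.W = R.T k⁻¹ * R.D (-(k⁻¹ * k⁻¹)) * R.W * R.T k⁻¹ := by
  have h1 : R.T k = R.D k * R.T 1 * R.D k⁻¹ := by
    rw [R.D_T hk, mul_one, mul_assoc, ← R.D_mul hk (inv_ne_zero hk), mul_inv_cancel₀ hk,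
      R.D_one, mul_one]
  have hi := inv_ne_zero hk
  have hm : (-1 : F23) ≠ 0 := neg_ne_zero.2 one_ne_zero
  calc R.W * R.T k * R.W = R.W * R.D k * R.T 1 * (R.D k⁻¹ * R.W) := by
        rw [h1]; simp only [mul_assoc]
    _ = R.D k⁻¹ * (R.W * R.T 1 * R.W) * R.D k := by
        rw [show R.D k⁻¹ * R.W = R.W * R.D k from (R.W_D hk).symm]
        nth_rewrite 1 [R.W_D hk]
        simp only [mul_assoc]
    _ = R.D k⁻¹ * (R.T 1 * R.D (-1) * R.W * R.T 1) * R.D k := by
        rw [R.T_one, R.hbr, R.D_neg_one]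
    _ = R.D k⁻¹ * R.T 1 * (R.D (-1) * (R.W * (R.T 1 * R.D k))) := by simp only [mul_assoc]
    _ = R.T k⁻¹ * R.D k⁻¹ * (R.D (-1) * (R.W * (R.D k * R.T (1 / k)))) := by
        rw [R.D_T hi, mul_one, R.T_D hk]
    _ = R.T k⁻¹ * (R.D k⁻¹ * R.D (-1) * R.D k⁻¹) * R.W * R.T k⁻¹ := by
        rw [← mul_assoc R.W, R.W_D hk, one_div]; simp only [mul_assoc]
    _ = _ := by
        rw [← R.D_mul hi hm, ← R.D_mul (mul_ne_zero hi hm) hi,
          show k⁻¹ * -1 * k⁻¹ = -(k⁻¹ * k⁻¹) by ring]

/-- The normal form of the matrix with the rows `a b` and `c d`. -/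
def form (a b c d : F23) : K :=
  if c = 0 then R.T (b / d) * R.D (a / d)
  else R.T (a / c) * R.D ((b * c - a * d) / (c * c)) * R.W * R.T (d / c)

theorem form_one : R.form 1 0 0 1 = 1 := by
  simp [form, R.T_zero, R.D_one]

theorem form_smul {l : F23} (hl : l ≠ 0) (a b c d : F23) :
    R.form (l * a) (l * b) (l * c) (l * d) = R.form a b c d := by
  by_cases hc : c = 0
  · simp [form, hc, mul_div_mul_left _ _ hl]
  · rw [form, if_neg (mul_ne_zero hl hc), form, if_neg hc, mul_div_mul_left _ _ hl,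
      mul_div_mul_left _ _ hl,
      show (l * b * (l * c) - l * a * (l * d)) / (l * c * (l * c)) =
        (b * c - a * d) / (c * c) by field_simp]

variable {a b c d : F23}

theorem form_T (h : a * d - b * c ≠ 0) (k : F23) :
    R.form a (a * k + b) c (c * k + d) = R.form a b c d * R.T k := by
  by_cases hc : c = 0
  · subst hc
    have hd : d ≠ 0 := fun e => h (by simp [e])
    have ha : a ≠ 0 := fun e => h (by simp [e])
    simp only [form, if_true, zero_mul, zero_add]
    rw [mul_assoc, R.D_T (div_ne_zero ha hd), R.T_assoc,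
      show b / d + a / d * k = (a * k + b) / d by field_simp; ring]
  · simp only [form, if_neg hc, mul_assoc, ← R.T_add]
    rw [show (a * k + b) * c - a * (c * k + d) = b * c - a * d by ring,
      show d / c + k = (c * k + d) / c by field_simp; ring]

theorem form_D (h : a * d - b * c ≠ 0) {x : F23} (hx : x ≠ 0) :
    R.form (a * x) b (c * x) d = R.form a b c d * R.D x := by
  by_cases hc : c = 0
  · subst hc
    have hd : d ≠ 0 := fun e => h (by simp [e])
    have ha : a ≠ 0 := fun e => h (by simp [e])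
    simp only [form, zero_mul, if_true]
    rw [mul_assoc, ← R.D_mul (div_ne_zero ha hd) hx, div_mul_eq_mul_div]
  · have hcx := mul_ne_zero hc hx
    have hδ : (b * c - a * d) / (c * c) ≠ 0 :=
      div_ne_zero (fun e => h (by linear_combination -e)) (mul_ne_zero hc hc)
    simp only [form, if_neg hc, if_neg hcx]
    rw [mul_assoc _ (R.T (d / c)) (R.D x), R.T_D hx, ← mul_assoc _ (R.D x),
      mul_assoc _ R.W (R.D x), R.W_D hx, ← mul_assoc _ (R.D x⁻¹) R.W,
      mul_assoc _ (R.D ((b * c - a * d) / (c * c))) (R.D x⁻¹), ← R.D_mul hδ (inv_ne_zero hx),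
      show a * x / (c * x) = a / c by field_simp,
      show (b * c - a * d) / (c * c) * x⁻¹ = (b * (c * x) - a * x * d) / (c * x * (c * x)) by
        field_simp,
      show d / c / x = d / (c * x) by field_simp]

theorem form_W (h : a * d - b * c ≠ 0) : R.form b a d c = R.form a b c d * R.W := by
  by_cases hc : c = 0
  · subst hc
    have hd : d ≠ 0 := fun e => h (by simp [e])
    simp only [form, if_true, if_neg hd]
    rw [show (a * d - b * 0) / (d * d) = a / d by field_simp; ring, zero_div, R.T_zero, mul_one]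
  · by_cases hd : d = 0
    · subst hd
      simp only [form, if_neg hc, if_true, zero_div, R.T_zero, mul_one, mul_zero, sub_zero]
      rw [mul_assoc _ R.W R.W, R.hW, mul_one, show b * c / (c * c) = b / c by field_simp]
    · have hq : d / c ≠ 0 := div_ne_zero hd hc
      have hδ : (b * c - a * d) / (c * c) ≠ 0 :=
        div_ne_zero (fun e => h (by linear_combination -e)) (mul_ne_zero hc hc)
      have hz : -((d / c)⁻¹ * (d / c)⁻¹) ≠ 0 :=
        neg_ne_zero.2 (mul_ne_zero (inv_ne_zero hq) (inv_ne_zero hq))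
      have e1 : b / d = a / c + (b * c - a * d) / (c * c) * (d / c)⁻¹ := by
        field_simp; ring
      have e2 : (a * d - b * c) / (d * d) =
          (b * c - a * d) / (c * c) * -((d / c)⁻¹ * (d / c)⁻¹) := by
        field_simp; ring
      simp only [form, if_neg hc, if_neg hd]
      rw [mul_assoc _ (R.T (d / c)) R.W, mul_assoc _ R.W (R.T (d / c) * R.W),
        ← mul_assoc R.W (R.T (d / c)) R.W, R.W_T_W hq, e1, e2,
        R.T_add, R.D_mul hδ hz, show c / d = (d / c)⁻¹ by field_simp]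
      simp only [mul_assoc]
      rw [← mul_assoc (R.D _) (R.T _) (R.D _ * _), R.D_T hδ]
      simp only [mul_assoc]

theorem form_mul {p q r s : F23} (h : a * d - b * c ≠ 0) (h' : p * s - q * r ≠ 0) :
    R.form (a * p + b * r) (a * q + b * s) (c * p + d * r) (c * q + d * s) =
      R.form a b c d * R.form p q r s := by
  by_cases hr : r = 0
  · subst hr
    have hs : s ≠ 0 := fun e => h' (by simp [e])
    have hp : p ≠ 0 := fun e => h' (by simp [e])
    have e := R.form_D (a := a) (b := a * (q / s) + b) (c := c) (d := c * (q / s) + d)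
      (fun e => h (by linear_combination e)) (div_ne_zero hp hs)
    rw [R.form_T h] at e
    rw [show R.form p q 0 s = R.T (q / s) * R.D (p / s) by simp [form]]
    rw [← mul_assoc, ← e, ← R.form_smul hs (a * (p / s))]
    congr 1 <;> field_simp <;> ring
  · have hδ : (q * r - p * s) / (r * r) ≠ 0 :=
      div_ne_zero (fun e => h' (by linear_combination -e)) (mul_ne_zero hr hr)
    set P := p / r with hP
    set δ := (q * r - p * s) / (r * r) with hδd
    have d1 : a * (c * P + d) - (a * P + b) * c ≠ 0 := fun e => h (by linear_combination e)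
    have d2 : a * δ * (c * P + d) - (a * P + b) * (c * δ) ≠ 0 := fun e =>
      (mul_ne_zero hδ h) (by linear_combination e)
    have d3 : (a * P + b) * (c * δ) - a * δ * (c * P + d) ≠ 0 := fun e => d2 (by linear_combination -e)
    have e1 := R.form_T h P
    have e2 := R.form_D d1 hδ
    have e3 := R.form_W d2
    have e4 := R.form_T d3 (s / r)
    rw [e3, e2, e1] at e4
    have ef : R.form p q r s = R.T P * R.D δ * R.W * R.T (s / r) := by
      simp only [form, if_neg hr, hP, hδd]
    rw [ef, ← mul_assoc, ← mul_assoc, ← mul_assoc, ← e4,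
      ← R.form_smul hr (a * P + b), hP, hδd]
    congr 1 <;> field_simp <;> ring

open Matrix

theorem det_ne (g : GL (Fin 2) F23) : g.1 0 0 * g.1 1 1 - g.1 0 1 * g.1 1 0 ≠ 0 := by
  have h : IsUnit g.1.det := (g.1.isUnit_iff_isUnit_det).1 g.isUnit
  rw [Matrix.det_fin_two] at h
  exact h.ne_zero

/-- The homomorphism from GL2(23). -/
def hom : GL (Fin 2) F23 →* K where
  toFun g := R.form (g.1 0 0) (g.1 0 1) (g.1 1 0) (g.1 1 1)
  map_one' := by simp [R.form_one]
  map_mul' g h := by
    simp only [Units.val_mul, Matrix.mul_apply, Fin.sum_univ_two]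
    exact R.form_mul (det_ne g) (det_ne h)

theorem TD_eq_one {k x : F23} (hx : x ≠ 0) (h : R.T k * R.D x = 1) : k = 0 ∧ x = 1 := by
  have hD : R.D x = R.T (-k) := by
    have hk : R.T (-k) * R.T k = 1 := by rw [← R.T_add, neg_add_cancel, R.T_zero]
    calc R.D x = R.T (-k) * R.T k * R.D x := by rw [hk, one_mul]
      _ = R.T (-k) := by rw [mul_assoc, h, mul_one]
  have h1 : x = 1 := by
    have := R.D_T hx 1
    rw [mul_one, hD, ← R.T_add, ← R.T_add] at this
    have := R.T_inj this
    linear_combination -this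
  subst h1
  rw [R.D_one, mul_one] at h
  exact ⟨R.T_eq_one h, rfl⟩

theorem W_ne (k : F23) {x : F23} (hx : x ≠ 0) : R.W ≠ R.T k * R.D x := by
  intro h
  have h5 : (5 : F23) ≠ 0 := by decide
  have e := R.W_D h5
  rw [h] at e
  have e' : R.T k * R.D (x * 5) = R.T (5⁻¹ * k) * R.D (5⁻¹ * x) := by
    rw [R.D_mul hx h5, R.D_mul (inv_ne_zero h5) hx, ← mul_assoc, e, ← mul_assoc,
      R.D_T (inv_ne_zero h5)]
    simp only [mul_assoc]
  have h51 : 5⁻¹ * x ≠ 0 := mul_ne_zero (inv_ne_zero h5) hx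
  have e'' : R.T (k - 5⁻¹ * k) * R.D (x * 5 * (5⁻¹ * x)⁻¹) = 1 := by
    rw [R.D_mul (mul_ne_zero hx h5) (inv_ne_zero h51), ← mul_assoc, R.D_inv h51,
      mul_inv_eq_one, sub_eq_add_neg, add_comm, R.T_add, mul_assoc, e', R.T_assoc,
      neg_add_cancel, R.T_zero, one_mul]
  have h2 := (R.TD_eq_one (mul_ne_zero (mul_ne_zero hx h5) (inv_ne_zero h51)) e'').2
  have h3 : (25 : F23) = 1 := by
    rw [← h2]; field_simp; norm_num
  exact absurd h3 (by decide)

theorem form_eq_one (h : a * d - b * c ≠ 0) (he : R.form a b c d = 1) :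
    c = 0 ∧ b = 0 ∧ a = d := by
  by_cases hc : c = 0
  · subst hc
    have hd : d ≠ 0 := fun e => h (by simp [e])
    have ha : a ≠ 0 := fun e => h (by simp [e])
    simp only [form, if_true] at he
    obtain ⟨h1, h2⟩ := R.TD_eq_one (div_ne_zero ha hd) he
    refine ⟨rfl, ?_, ?_⟩
    · simpa [hd] using h1
    · exact (div_eq_one_iff_eq hd).1 h2
  · exfalso
    have hδ : (b * c - a * d) / (c * c) ≠ 0 :=
      div_ne_zero (fun e => h (by linear_combination -e)) (mul_ne_zero hc hc)
    simp only [form, if_neg hc] at he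
    set p := a / c
    set q := d / c
    set δ := (b * c - a * d) / (c * c)
    apply R.W_ne (-(δ⁻¹ * (p + q))) (inv_ne_zero hδ)
    have hW' : R.W = (R.T p * R.D δ)⁻¹ * (R.T q)⁻¹ := by
      rw [eq_inv_mul_iff_mul_eq, eq_inv_iff_mul_eq_one]; exact he
    rw [hW', _root_.mul_inv_rev, ← R.D_inv hδ,
      inv_eq_of_mul_eq_one_right (show R.T p * R.T (-p) = 1 by
        rw [← R.T_add, add_neg_cancel, R.T_zero]),
      inv_eq_of_mul_eq_one_right (show R.T q * R.T (-q) = 1 by
        rw [← R.T_add, add_neg_cancel, R.T_zero]),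
      mul_assoc, ← R.T_add, R.D_T (inv_ne_zero hδ)]
    ring_nf

theorem hom_ker : R.hom.ker = Subgroup.center (GL (Fin 2) F23) := by
  ext g
  rw [MonoidHom.mem_ker, Matrix.GeneralLinearGroup.center_eq_range_scalar, MonoidHom.mem_range]
  constructor
  · intro h
    obtain ⟨hc, hb, ha⟩ := R.form_eq_one (det_ne g) h
    have h0 : g.1 0 0 ≠ 0 := fun e => det_ne g (by simp [e, hb])
    refine ⟨Units.mk0 _ h0, Units.ext ?_⟩
    ext i j
    fin_cases i <;> fin_cases j <;> simp [hc, hb, ha]
  · rintro ⟨u, rfl⟩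
    have := R.form_smul u.ne_zero 1 0 0 1
    simp only [mul_one, mul_zero] at this
    simp [hom, this, R.form_one]

end Rels

/-- A group with the relations contains PGL2(23). -/
theorem exists_subgroup {K : Type*} [Group K] (R : Rels K) :
    ∃ L : Subgroup K,
      Nonempty (↥L ≃* GL (Fin 2) (ZMod 23) ⧸ Subgroup.center (GL (Fin 2) (ZMod 23))) :=
  ⟨R.hom.range, ⟨(QuotientGroup.quotientKerEquivRange R.hom).symm.trans
    (QuotientGroup.quotientMulEquivOfEq R.hom_ker)⟩⟩

end Cfsg.Lib.J4PGL
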